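import Mathlib
import Cfsg.Agent.S0205
import Cfsg.Agent.S0105
import Cfsg.Agent.Kazarin.Main
import Cfsg.Agent.Solvable.Fitting

/-!
A group with abelian Sylow 2-subgroups that has a 2-complement is solvable.  In a minimal
counterexample the normalizers of the Sylow 2-subgroups contain the centralizers of their
involutions, and a coset of such a normalizer containing two involutions leads to a contradiction.
-/

set_option autoImplicit false
set_option linter.style.haveILetI false
set_option linter.unusedSectionVars false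

namespace CfsgLib.TwoPowIndex

open Subgroup

universe u

/-- The Sylow 2-subgroups are abelian. -/
def TwoAbel (G : Type*) [Group G] : Prop :=
  ∀ P : Sylow 2 G, ∀ a ∈ (P : Subgroup G), ∀ b ∈ (P : Subgroup G), a * b = b * a

variable {G : Type u} [Group G] [Finite G]

omit [Finite G] in
theorem TwoAbel.comm_pGroup (h : TwoAbel G) {Q : Subgroup G} (hQ : IsPGroup 2 Q) {a b : G}
    (ha : a ∈ Q) (hb : b ∈ Q) : a * b = b * a := by
  obtain ⟨P, hP⟩ := hQ.exists_le_sylow
  exact h P a (hP ha) b (hP hb)

omit [Finite G] in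
theorem TwoAbel.sub (h : TwoAbel G) (K : Subgroup G) : TwoAbel K := fun P a ha b hb =>
  Subtype.ext (h.comm_pGroup (P.2.map K.subtype) (mem_map_of_mem K.subtype ha)
    (mem_map_of_mem K.subtype hb))

theorem TwoAbel.surj (h : TwoAbel G) {H : Type*} [Group H] (f : G →* H)
    (hf : Function.Surjective f) : TwoAbel H := by
  intro Q a ha b hb
  haveI : Finite H := Finite.of_surjective f hf
  obtain ⟨P⟩ := (inferInstance : Nonempty (Sylow 2 G))
  obtain ⟨g, rfl⟩ := MulAction.exists_smul_eq H (P.mapSurjective hf) Q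
  rw [Sylow.coe_subgroup_smul] at ha hb
  obtain ⟨a', ⟨x, hx, rfl⟩, rfl⟩ := ha
  obtain ⟨b', ⟨y, hy, rfl⟩, rfl⟩ := hb
  show MulAut.conj g (f x) * MulAut.conj g (f y) = MulAut.conj g (f y) * MulAut.conj g (f x)
  rw [← map_mul, ← map_mul, ← map_mul, ← map_mul, h P x hx y hy]

theorem even_card_fixed {α : Type*} [Fintype α] [DecidableEq α] (f : α → α)
    (hf : ∀ a, f (f a) = a) (he : Even (Fintype.card α)) :
    Even (Fintype.card {a // f a = a}) := by
  have h := Equiv.Perm.card_fixedPoints_modEq (α := α) (f := f) (p := 2) (n := 1)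
    (funext fun a => hf a)
  rw [Nat.even_iff] at he ⊢
  rw [← he]
  exact h.symm

/-- An involution normalising a subgroup of even order centralises an involution of it. -/
theorem exists_commuting_involution (C : Subgroup G) (hC : 2 ∣ Nat.card C) {u : G}
    (hu : u * u = 1) (hn : ∀ c ∈ C, u * c * u ∈ C) :
    ∃ w ∈ C, w * w = 1 ∧ w ≠ 1 ∧ u * w = w * u := by
  classical
  haveI := Fintype.ofFinite G
  let f : C → C := fun c => c⁻¹
  have h1 : Even (Fintype.card {c : C // f c = c}) := even_card_fixed f (fun c => inv_inv c)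
    (by rw [← Nat.card_eq_fintype_card]; exact even_iff_two_dvd.2 hC)
  let g : {c : C // f c = c} → {c : C // f c = c} := fun c => ⟨⟨u * c.1.1 * u, hn _ c.1.2⟩, by
    apply Subtype.ext
    show (u * (c.1 : G) * u)⁻¹ = u * c.1.1 * u
    have hc : ((c.1 : G))⁻¹ = (c.1 : G) := congrArg Subtype.val c.2
    rw [mul_inv_rev, mul_inv_rev, hc, inv_eq_of_mul_eq_one_left hu, mul_assoc]⟩
  have h2 : Even (Fintype.card {c // g c = c}) := even_card_fixed g (fun c => by
    apply Subtype.ext; apply Subtype.ext
    show u * (u * (c.1 : G) * u) * u = c.1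
    calc u * (u * (c.1 : G) * u) * u = (u * u) * (c.1 : G) * (u * u) := by group
      _ = _ := by rw [hu, one_mul, mul_one]) h1
  let e : {c // g c = c} := ⟨⟨1, inv_one⟩, by
    apply Subtype.ext; apply Subtype.ext
    show u * 1 * u = 1
    rw [mul_one, hu]⟩
  haveI : Nontrivial {c // g c = c} := Fintype.one_lt_card_iff_nontrivial.1 (by
    obtain ⟨k, hk⟩ := h2
    have := Fintype.card_pos_iff.2 ⟨e⟩
    omega)
  obtain ⟨⟨⟨⟨w, hwC⟩, hw⟩, hwu⟩, hne⟩ := exists_ne e
  have hw' : w⁻¹ = w := congrArg Subtype.val hw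
  have hwu' : u * w * u = w := congrArg (fun z : {c : C // f c = c} => (z.1 : G)) hwu
  refine ⟨w, hwC, mul_eq_one_iff_eq_inv.2 hw'.symm, fun h1' => hne (Subtype.ext (Subtype.ext
    (Subtype.ext h1'))), ?_⟩
  calc u * w = u * w * (u * u) := by rw [hu, mul_one]
    _ = (u * w * u) * u := by group
    _ = w * u := by rw [hwu']

/-- A proper subgroup containing `P` normalises it, in a minimal counterexample. -/
theorem le_normalizer_of_sylow_le (hA : TwoAbel G) {H : Subgroup G} (P : Sylow 2 G)
    (hHodd : Odd (Nat.card H)) (hc : IsComplement' (P : Subgroup G) H) (hcore : H.normalCore = ⊥)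
    {M : Subgroup G} (hPM : (P : Subgroup G) ≤ M) (hM : Group.IsSolvable M) :
    M ≤ normalizer ((P : Subgroup G) : Set G) := by
  classical
  haveI := hM
  have hcopH : (Nat.card (P : Subgroup G)).Coprime (Nat.card H) := by
    obtain ⟨k, hk⟩ := IsPGroup.iff_card.1 P.2
    rw [hk]
    exact Nat.Coprime.pow_left _ (Nat.prime_two.coprime_iff_not_dvd.2 hHodd.not_two_dvd_nat)
  -- `M = P (H ∩ M)`
  have hmem : ∀ m ∈ M, ∃ t ∈ (P : Subgroup G), ∃ h ∈ H ⊓ M, m = t * h := by
    intro m hm
    obtain ⟨⟨t, h⟩, hth, -⟩ := hc.existsUnique m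
    simp only at hth
    exact ⟨t, t.2, h, ⟨h.2, by
      have : (h : G) = (t : G)⁻¹ * m := by rw [← hth]; group
      rw [this]; exact M.mul_mem (M.inv_mem (hPM t.2)) hm⟩, hth.symm⟩
  set O : Subgroup M := Cfsg.pPrimeCore 2 M
  have hO : O = ⊥ := by
    have hOn : (O.map M.subtype) ≤ H.normalCore := by
      have hle : O.map M.subtype ≤ H := by
        have hcop : (Nat.card O).Coprime 2 := CfsgLib.Solvable.coprime_card_pPrimeCore 2
        set HM := H.subgroupOf M
        have hcHM : IsComplement' ((P : Subgroup G).subgroupOf M) HM := by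
          refine isComplement'_of_card_mul_and_disjoint ?_ ?_
          · apply le_antisymm
            · have := Nat.card_le_card_of_injective
                (fun x : (P : Subgroup G).subgroupOf M × HM => (x.1 : M) * (x.2 : M)) ?_
              · rwa [Nat.card_prod] at this
              · rintro ⟨a, b⟩ ⟨a', b'⟩ h
                have h' : ((a : M) : G) * ((b : M) : G) = ((a' : M) : G) * ((b' : M) : G) :=
                  congrArg Subtype.val h
                have := hc.1 (a₁ := (⟨⟨((a : M) : G), a.2⟩, ⟨((b : M) : G), b.2⟩⟩ :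
                  ↥((P : Subgroup G) : Set G) × ↥(H : Set G))) (a₂ := ⟨⟨((a' : M) : G), a'.2⟩, ⟨((b' : M) : G), b'.2⟩⟩) h'
                simp only [Prod.mk.injEq, Subtype.mk.injEq] at this
                have h1 := congrArg Subtype.val this.1
                have h2 := congrArg Subtype.val this.2
                exact Prod.ext (Subtype.ext (Subtype.ext h1)) (Subtype.ext (Subtype.ext h2))
            · have := Nat.card_le_card_of_surjective
                (fun x : (P : Subgroup G).subgroupOf M × HM => (x.1 : M) * (x.2 : M)) (fun m => by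
                  obtain ⟨t, ht, h, hh, hth⟩ := hmem m m.2
                  exact ⟨(⟨⟨t, hPM ht⟩, ht⟩, ⟨⟨h, hh.2⟩, hh.1⟩), Subtype.ext hth.symm⟩)
              rwa [Nat.card_prod] at this
          · rw [disjoint_iff, eq_bot_iff]
            rintro m ⟨h1, h2⟩
            exact Subtype.ext (mem_bot.1 (hc.disjoint.le_bot ⟨h1, h2⟩))
        have hHMdvd : Nat.card HM ∣ Nat.card H := by
          have : Nat.card HM = Nat.card ↥(H ⊓ M) := by
            rw [← subgroupOf_map_subtype, card_map_of_injective M.subtype_injective]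
          rw [this]
          exact card_dvd_of_le inf_le_left
        have hsup : Nat.card ↥(HM ⊔ O) ∣ Nat.card HM := by
          have h1 := CfsgLib.Solvable.card_sup_dvd (A := HM) (K := O)
            (by rw [normalizer_eq_top]; exact le_top)
          have hodd : (Nat.card ↥(HM ⊔ O)).Coprime (Nat.card ((P : Subgroup G).subgroupOf M)) := by
            obtain ⟨k, hk⟩ := IsPGroup.iff_card.1
              (P.2.comap_of_injective M.subtype M.subtype_injective)
            rw [show Nat.card ((P : Subgroup G).subgroupOf M) = 2 ^ k from hk]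
            refine Nat.Coprime.pow_right _ (Nat.Coprime.coprime_dvd_left h1 ?_)
            exact Nat.Coprime.mul_left (Nat.Coprime.coprime_dvd_left hHMdvd
              (Nat.coprime_two_right.2 hHodd)) hcop
          have h2 : Nat.card ↥(HM ⊔ O) ∣ Nat.card ((P : Subgroup G).subgroupOf M) * Nat.card HM := by
            rw [hcHM.card_mul_card]; exact card_subgroup_dvd_card _
          exact hodd.dvd_of_dvd_mul_left h2
        have heq : HM = HM ⊔ O := CfsgLib.Solvable.eq_of_le_of_card_le le_sup_left
          (Nat.le_of_dvd Nat.card_pos hsup)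
        rintro _ ⟨o, ho, rfl⟩
        exact (heq.ge (mem_sup_right ho) : o ∈ HM)
      intro n hn g
      obtain ⟨o, ho, rfl⟩ := hn
      obtain ⟨⟨t, h⟩, hth, -⟩ := hc.existsUnique g⁻¹
      simp only at hth
      have hg : g = (h : G)⁻¹ * (t : G)⁻¹ := by rw [← inv_inv g, ← hth]; group
      have h3 : (t : G)⁻¹ * (o : G) * t ∈ H := hle ⟨(⟨t, hPM t.2⟩ : M)⁻¹ * o * ⟨t, hPM t.2⟩,
        by simpa using (Subgroup.Normal.conj_mem (inferInstance : O.Normal) o ho (⟨t, hPM t.2⟩ : M)⁻¹),
        rfl⟩
      have : g * (M.subtype o) * g⁻¹ = (h : G)⁻¹ * ((t : G)⁻¹ * (o : G) * t) * h := by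
        rw [hg, Subgroup.coe_subtype]; group
      rw [this]
      exact H.mul_mem (H.mul_mem (H.inv_mem h.2) h3) h.2
    rw [hcore, le_bot_iff, map_eq_bot_iff_of_injective _ M.subtype_injective] at hOn
    exact hOn
  let PM : Sylow 2 M := P.subtype hPM
  have hPM2 : (PM : Subgroup M) = Cfsg.pCore 2 M :=
    CfsgLib.Fitting.abelian_sylow_eq_pCore hO PM (fun a ha => mem_centralizer_iff.2
      (fun b hb => Subtype.ext (hA P _ hb _ ha)))
  intro m hm
  rw [mem_normalizer_iff]
  have key : ∀ n : M, ∀ s ∈ (P : Subgroup G), (n : G) * s * (n : G)⁻¹ ∈ (P : Subgroup G) := by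
    intro n s hs
    have hs' : (⟨s, hPM hs⟩ : M) ∈ (PM : Subgroup M) := hs
    rw [hPM2] at hs'
    have h4 := (inferInstance : (Cfsg.pCore 2 M).Normal).conj_mem _ hs' n
    rw [← hPM2] at h4
    exact h4
  intro s
  constructor
  · exact key ⟨m, hm⟩ s
  · intro hs
    have h5 := key (⟨m, hm⟩ : M)⁻¹ _ hs
    simpa [mul_assoc] using h5

/-- An involution outside the normalizer of a Sylow 2-subgroup inverts nothing inside it. -/
theorem no_inverted (hA : TwoAbel G) {H : Subgroup G} (hHodd : Odd (Nat.card H))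
    (hc : ∀ P : Sylow 2 G, IsComplement' (P : Subgroup G) H)
    (hloc : ∀ (P : Sylow 2 G) (w : G), w ∈ (P : Subgroup G) → w * w = 1 → w ≠ 1 →
      ∀ c : G, c * w = w * c → c ∈ normalizer ((P : Subgroup G) : Set G))
    (P : Sylow 2 G) {u z : G} (hu : u * u = 1) (hu1 : u ≠ 1)
    (huN : u ∉ normalizer ((P : Subgroup G) : Set G))
    (hzN : z ∈ normalizer ((P : Subgroup G) : Set G)) (hinv : u * z * u = z⁻¹) : z = 1 := by
  classical
  -- in the normalizer of a Sylow 2-subgroup every 2-element lies in it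
  have htwo : ∀ (Q : Sylow 2 G) (w : G), w ∈ normalizer ((Q : Subgroup G) : Set G) → w * w = 1 →
      w ∈ (Q : Subgroup G) := by
    intro Q w hw hw2
    have hp : IsPGroup 2 (zpowers w) := by
      rintro ⟨x, hx⟩
      obtain ⟨k, rfl⟩ := mem_zpowers_iff.1 hx
      refine ⟨1, Subtype.ext ?_⟩
      show (w ^ k) ^ (2 ^ 1) = 1
      rw [pow_one, ← zpow_natCast, ← zpow_mul, mul_comm, zpow_mul,
        show w ^ ((2 : ℕ) : ℤ) = 1 by rw [zpow_natCast, sq, hw2], one_zpow]
    exact (Q.3 (hp.to_sup_of_normal_right' Q.2 (zpowers_le.2 hw)) le_sup_right).le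
      (mem_sup_left (mem_zpowers w))
  -- `z` has odd order
  have hzodd : Odd (orderOf z) := by
    rcases Nat.even_or_odd (orderOf z) with ⟨k, hk⟩ | h
    · exfalso
      have hk0 : 0 < k := by have := orderOf_pos z; omega
      set w := z ^ k with hw
      have hw2 : w * w = 1 := by rw [hw, ← pow_add, ← hk, pow_orderOf_eq_one]
      have hw1 : w ≠ 1 := fun h => by
        have := Nat.le_of_dvd hk0 (orderOf_dvd_of_pow_eq_one h); omega
      have hwP : w ∈ (P : Subgroup G) := htwo P w (pow_mem hzN k) hw2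
      have huw : u * w * u = w := by
        have h1 : u * w * u = (u * z * u⁻¹) ^ k := by
          rw [conj_pow, inv_eq_of_mul_eq_one_left hu]
        rw [h1, inv_eq_of_mul_eq_one_left hu, hinv, inv_pow]
        exact inv_eq_of_mul_eq_one_left hw2
      have : u * w = w * u := by
        calc u * w = u * w * (u * u) := by rw [hu, mul_one]
          _ = (u * w * u) * u := by group
          _ = w * u := by rw [huw]
      exact huN (hloc P w hwP hw2 hw1 u this)
    · exact h
  -- `z` centralises an involution of `P`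
  by_cases hfix : ∀ t ∈ (P : Subgroup G), z * t = t * z → t = 1
  · exfalso
    obtain ⟨⟨t0, h0⟩, hz0, -⟩ := (hc P).existsUnique z
    simp only at hz0
    have hconj : ∀ t ∈ (P : Subgroup G), z * t * z⁻¹ ∈ (P : Subgroup G) := fun t ht =>
      (mem_normalizer_iff.1 hzN t).1 ht
    let f : ↥(P : Subgroup G) → ↥(P : Subgroup G) := fun t =>
      ⟨(t : G)⁻¹ * (z * t * z⁻¹), mul_mem (inv_mem t.2) (hconj t t.2)⟩
    have hfinj : Function.Injective f := by
      intro a b hab
      have h : (a : G)⁻¹ * (z * a * z⁻¹) = (b : G)⁻¹ * (z * b * z⁻¹) := congrArg Subtype.val hab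
      apply Subtype.ext
      refine mul_inv_eq_one.1 (hfix _ (mul_mem a.2 (inv_mem b.2)) ?_)
      have hba : ((a : G) * (b : G)⁻¹) = (z * a * z⁻¹) * (z * b * z⁻¹)⁻¹ := by
        have hcomm := hA P _ a.2 _ (inv_mem b.2)
        calc (a : G) * (b : G)⁻¹ = (a : G) * ((b : G)⁻¹ * (z * b * z⁻¹)) * (z * b * z⁻¹)⁻¹ := by group
          _ = _ := by rw [← h]; group
      calc z * ((a : G) * (b : G)⁻¹) = ((z * a * z⁻¹) * (z * b * z⁻¹)⁻¹) * z := by group
        _ = _ := by rw [← hba]
    obtain ⟨t, ht⟩ := (Finite.injective_iff_surjective.1 hfinj) (t0⁻¹)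
    have ht' : (t : G)⁻¹ * (z * t * z⁻¹) = (t0 : G)⁻¹ := congrArg Subtype.val ht
    have hmem : (t : G)⁻¹ * z * t ∈ H := by
      have : (t : G)⁻¹ * z * t = (t : G)⁻¹ * (z * t * z⁻¹) * z := by group
      rw [this, ht', ← hz0, inv_mul_cancel_left]
      exact h0.2
    obtain ⟨⟨t', k⟩, hk, -⟩ := (hc P).existsUnique (u * t)
    simp only at hk
    -- the moved point is again fixed
    have hk' : u * (t : G) = (t' : G) * k := hk.symm
    have hmem' : (t' : G)⁻¹ * z * t' ∈ H := by
      have h1 : (t' : G) = u * t * (k : G)⁻¹ := by rw [hk']; group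
      have h2 : (t' : G)⁻¹ * z * t' = (k : G) * ((t : G)⁻¹ * (u * z * u) * t) * (k : G)⁻¹ := by
        rw [h1, mul_inv_rev, mul_inv_rev, inv_inv, inv_eq_of_mul_eq_one_left hu]
        group
      rw [h2, hinv]
      have h3 : (t : G)⁻¹ * z⁻¹ * t = ((t : G)⁻¹ * z * t)⁻¹ := by group
      rw [h3]
      exact mul_mem (mul_mem k.2 (inv_mem hmem)) (inv_mem k.2)
    have huniq : t' = t := by
      apply hfinj
      rw [ht]
      apply Subtype.ext
      show (t' : G)⁻¹ * (z * t' * z⁻¹) = (t0 : G)⁻¹
      have h1 : (t' : G)⁻¹ * z * t' = ((t' : G)⁻¹ * (z * t' * z⁻¹) * t0) * h0 := by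
        rw [mul_assoc _ (t0 : G), hz0]; group
      have h2 : (t' : G)⁻¹ * (z * t' * z⁻¹) * t0 ∈ (P : Subgroup G) ⊓ H := by
        refine ⟨mul_mem (mul_mem (Subgroup.inv_mem _ t'.2) (hconj _ t'.2)) t0.2, ?_⟩
        have := mul_mem hmem' (inv_mem h0.2)
        rwa [h1, mul_inv_cancel_right] at this
      rw [(hc P).disjoint.eq_bot, mem_bot] at h2
      exact eq_inv_of_mul_eq_one_left h2
    have huH : (t : G)⁻¹ * u * t ∈ H := by
      rw [mul_assoc, hk', huniq, inv_mul_cancel_left]
      exact k.2
    have hord : orderOf ((t : G)⁻¹ * u * t) = 2 := by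
      refine orderOf_eq_prime ?_ ?_
      · rw [sq]
        calc (t : G)⁻¹ * u * t * ((t : G)⁻¹ * u * t) = (t : G)⁻¹ * (u * u) * t := by group
          _ = 1 := by rw [hu]; group
      · intro h
        apply hu1
        calc u = (t : G) * ((t : G)⁻¹ * u * t) * (t : G)⁻¹ := by group
          _ = 1 := by rw [h]; group
    exact hHodd.not_two_dvd_nat (hord ▸ orderOf_dvd_natCard H huH)
  push_neg at hfix
  obtain ⟨t, htP, htz, ht1⟩ := hfix
  set C := centralizer ({z} : Set G)
  have htC : t ∈ C := mem_centralizer_singleton_iff.2 htz.symm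
  have h2C : 2 ∣ Nat.card C := by
    obtain ⟨k, hk⟩ := P.2 ⟨t, htP⟩
    have hdvd : orderOf t ∣ 2 ^ k := orderOf_dvd_of_pow_eq_one (congrArg Subtype.val hk)
    obtain ⟨j, -, hj⟩ := (Nat.dvd_prime_pow Nat.prime_two).1 hdvd
    have hj0 : j ≠ 0 := fun h => ht1 (orderOf_eq_one_iff.1 (by rw [hj, h, pow_zero]))
    exact (dvd_pow_self 2 hj0).trans (hj ▸ orderOf_dvd_natCard C htC)
  obtain ⟨w, hwC, hw2, hw1, huw⟩ := exists_commuting_involution C h2C hu (fun c hc' => by
    rw [mem_centralizer_singleton_iff] at hc' ⊢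
    have h1 : u * z⁻¹ * u = z := by
      rw [← hinv]
      calc u * (u * z * u) * u = (u * u) * z * (u * u) := by group
        _ = z := by rw [hu, one_mul, mul_one]
    have h2 : c * z⁻¹ = z⁻¹ * c := by
      calc c * z⁻¹ = z⁻¹ * (z * c) * z⁻¹ := by group
        _ = z⁻¹ * (c * z) * z⁻¹ := by rw [hc']
        _ = z⁻¹ * c := by group
    calc u * c * u * z = u * c * u * (u * z⁻¹ * u) := by rw [h1]
      _ = u * (c * (u * u) * z⁻¹) * u := by group
      _ = u * (z⁻¹ * c) * u := by rw [hu, mul_one, h2]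
      _ = u * z⁻¹ * (u * u) * c * u := by rw [hu]; group
      _ = (u * z⁻¹ * u) * (u * c * u) := by group
      _ = z * (u * c * u) := by rw [h1])
  obtain ⟨Q, hwQ⟩ : ∃ Q : Sylow 2 G, w ∈ (Q : Subgroup G) := by
    have hp : IsPGroup 2 (zpowers w) := IsPGroup.of_card (n := 1) (by
      rw [Nat.card_zpowers, pow_one]
      exact orderOf_eq_prime (by rw [sq, hw2]) hw1)
    obtain ⟨Q, hQ⟩ := hp.exists_le_sylow
    exact ⟨Q, hQ (mem_zpowers w)⟩
  have huQ : u ∈ (Q : Subgroup G) := htwo Q u (hloc Q w hwQ hw2 hw1 u huw) hu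
  have hzQ : z ∈ normalizer ((Q : Subgroup G) : Set G) :=
    hloc Q w hwQ hw2 hw1 z (mem_centralizer_singleton_iff.1 hwC).symm
  have hsq : z ^ 2 ∈ (Q : Subgroup G) := by
    have h1 : z ^ 2 = (z * u * z⁻¹) * u := by
      calc z ^ 2 = z * (u * z⁻¹ * u) := by
            rw [← hinv, show u * (u * z * u) * u = (u * u) * z * (u * u) by group, hu, one_mul,
              mul_one, sq]
        _ = (z * u * z⁻¹) * u := by group
    rw [h1]
    exact mul_mem ((mem_normalizer_iff.1 hzQ u).1 huQ) huQ
  obtain ⟨k, hk⟩ := Q.2 ⟨_, hsq⟩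
  have hd : orderOf z ∣ 2 * 2 ^ k := by
    apply orderOf_dvd_of_pow_eq_one
    rw [pow_mul]
    exact congrArg Subtype.val hk
  have : orderOf z ∣ 1 := ((Nat.coprime_two_right.2 hzodd).mul_right
    (Nat.Coprime.pow_right k (Nat.coprime_two_right.2 hzodd))).dvd_of_dvd_mul_right
      (by simpa using hd)
  exact orderOf_eq_one_iff.1 (Nat.dvd_one.1 this)

theorem solvable_of_odd_complement_aux (n : ℕ) : ∀ (G : Type u) [Group G] [Finite G],
    Nat.card G = n → TwoAbel G → ∀ H : Subgroup G, Odd (Nat.card H) → (∃ k, H.index = 2 ^ k) →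
      Group.IsSolvable G := by
  induction n using Nat.strong_induction_on with
  | _ n ih =>
    intro G _ _ hn hA H hHodd ⟨k, hk⟩
    subst hn
    classical
    rcases subsingleton_or_nontrivial G with hG | hG
    · infer_instance
    by_cases hsimple : ∃ N : Subgroup G, N.Normal ∧ N ≠ ⊥ ∧ N ≠ ⊤
    · obtain ⟨N, hNn, hN1, hN2⟩ := hsimple
      haveI : Group.IsSolvable N := by
        refine ih _ (CfsgLib.Solvable.card_lt_of_ne_top hN2) N rfl (hA.sub N) (H.subgroupOf N) ?_ ?_
        · have : Nat.card (H.subgroupOf N) = Nat.card ↥(H ⊓ N) := by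
            rw [← subgroupOf_map_subtype, card_map_of_injective N.subtype_injective]
          rw [this]
          exact hHodd.of_dvd_nat (card_dvd_of_le inf_le_left)
        · obtain ⟨j, -, hj⟩ := (Nat.dvd_prime_pow Nat.prime_two).1
            (hk ▸ CfsgLib.Kazarin.relIndex_dvd H N)
          exact ⟨j, hj⟩
      haveI : Group.IsSolvable (G ⧸ N) := by
        refine ih _ (CfsgLib.Solvable.card_quotient_lt hN1) (G ⧸ N) rfl
          (hA.surj _ (QuotientGroup.mk'_surjective N)) (H.map (QuotientGroup.mk' N))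
          (hHodd.of_dvd_nat (H.card_map_dvd _)) ?_
        obtain ⟨j, -, hj⟩ := (Nat.dvd_prime_pow Nat.prime_two).1
          (hk ▸ H.index_map_dvd (QuotientGroup.mk'_surjective N))
        exact ⟨j, hj⟩
      exact Group.isSolvable_of_ker_le_range N.subtype (QuotientGroup.mk' N)
        (by rw [QuotientGroup.ker_mk', Subgroup.range_subtype])
    push_neg at hsimple
    haveI hS : IsSimpleGroup G := ⟨fun N hN => or_iff_not_imp_left.2 (hsimple N hN)⟩
    by_cases hab : ∀ a b : G, a * b = b * a
    · exact Group.isSolvable_of_comm hab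
    by_cases hodd : Odd (Nat.card G)
    · exact Cfsg.Agent.S0205.result hodd
    exfalso
    have h2G : 2 ∣ Nat.card G := even_iff_two_dvd.1 (Nat.not_odd_iff_even.1 hodd)
    haveI : Fact (Nat.Prime 2) := ⟨Nat.prime_two⟩
    -- every Sylow 2-subgroup is a complement of `H`
    have hc : ∀ P : Sylow 2 G, IsComplement' (P : Subgroup G) H := by
      intro P
      have hcop : (Nat.card (P : Subgroup G)).Coprime (Nat.card H) := by
        obtain ⟨j, hj⟩ := IsPGroup.iff_card.1 P.2
        rw [hj]
        exact Nat.Coprime.pow_left _ (Nat.prime_two.coprime_iff_not_dvd.2 hHodd.not_two_dvd_nat)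
      refine isComplement'_of_coprime ?_ hcop
      have hcard := P.card_eq_multiplicity
      rw [← H.card_mul_index, hk, Nat.factorization_mul Nat.card_pos.ne' (pow_ne_zero _ two_ne_zero),
        Finsupp.add_apply, Nat.factorization_eq_zero_of_not_dvd hHodd.not_two_dvd_nat, zero_add,
        Nat.prime_two.factorization_pow, Finsupp.single_eq_same] at hcard
      rw [hcard, mul_comm, ← hk, H.card_mul_index]
    have hcore : H.normalCore = ⊥ := by
      rcases (inferInstance : H.normalCore.Normal).eq_bot_or_eq_top with h | h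
      · exact h
      · exfalso
        have hHt : H = ⊤ := top_le_iff.1 (h ▸ H.normalCore_le)
        rw [hHt, card_top] at hHodd
        exact hodd hHodd
    have hsolM : ∀ (P : Sylow 2 G) (M : Subgroup G), (P : Subgroup G) ≤ M → M ≠ ⊤ →
        Group.IsSolvable M := by
      intro P M hPM hM
      refine ih _ (CfsgLib.Solvable.card_lt_of_ne_top hM) M rfl (hA.sub M) (H.subgroupOf M) ?_ ?_
      · have : Nat.card (H.subgroupOf M) = Nat.card ↥(H ⊓ M) := by
          rw [← subgroupOf_map_subtype, card_map_of_injective M.subtype_injective]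
        rw [this]
        exact hHodd.of_dvd_nat (card_dvd_of_le inf_le_left)
      · have hprod : Nat.card ↥(H ⊓ M) * H.relIndex M = Nat.card M := by
          have h := relIndex_mul_relIndex ⊥ (H ⊓ M) M bot_le inf_le_right
          rw [relIndex_bot_left, relIndex_bot_left, inf_relIndex_right] at h
          exact h
        have hd : 2 ^ k ∣ H.relIndex M := by
          have h1 : 2 ^ k ∣ Nat.card ↥(H ⊓ M) * H.relIndex M := by
            rw [hprod, ← hk, (hc P).index_eq_card]; exact card_dvd_of_le hPM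
          exact (Nat.Coprime.pow_left k (Nat.prime_two.coprime_iff_not_dvd.2
            (hHodd.of_dvd_nat (card_dvd_of_le inf_le_left)).not_two_dvd_nat)).dvd_of_dvd_mul_left h1
        have hle : H.relIndex M ≤ H.index := by
          rw [← relIndex_top_right]
          exact relIndex_le_of_le_right le_top (by rw [relIndex_top_right]; exact index_ne_zero_of_finite)
        refine ⟨k, le_antisymm ?_ (Nat.le_of_dvd (Nat.pos_of_ne_zero index_ne_zero_of_finite) hd)⟩
        rw [← hk]; exact hle
    have hloc : ∀ (P : Sylow 2 G) (w : G), w ∈ (P : Subgroup G) → w * w = 1 → w ≠ 1 →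
        ∀ c : G, c * w = w * c → c ∈ normalizer ((P : Subgroup G) : Set G) := by
      intro P w hw _ hw1 c hcw
      have hPC : (P : Subgroup G) ≤ centralizer ({w} : Set G) := fun s hs =>
        mem_centralizer_singleton_iff.2 (hA P s hs w hw)
      have hne : centralizer ({w} : Set G) ≠ ⊤ := by
        intro h
        have hwZ : w ∈ center G := mem_center_iff.2 fun g =>
          mem_centralizer_singleton_iff.1 (h ▸ mem_top g : g ∈ centralizer ({w} : Set G))
        rcases (inferInstance : (center G).Normal).eq_bot_or_eq_top with h' | h'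
        · exact hw1 (by rwa [h', mem_bot] at hwZ)
        · exact hab fun a b => mem_center_iff.1 (h' ▸ mem_top b) a
      exact le_normalizer_of_sylow_le hA P hHodd (hc P) hcore hPC (hsolM P _ hPC hne)
        (mem_centralizer_singleton_iff.2 hcw)
    -- two involutions in every Sylow 2-subgroup
    have hnormlt : ∀ P : Sylow 2 G, normalizer ((P : Subgroup G) : Set G) ≠ ⊤ := by
      intro P h
      haveI : (P : Subgroup G).Normal := normalizer_eq_top_iff.1 h
      rcases (inferInstance : (P : Subgroup G).Normal).eq_bot_or_eq_top with h' | h'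
      · exact P.ne_bot_of_dvd_card h2G h'
      · exact hab fun a b => hA P a (h' ▸ mem_top a) b (h' ▸ mem_top b)
    have htwo : ∀ P : Sylow 2 G, ∃ s t : G, s ∈ (P : Subgroup G) ∧ t ∈ (P : Subgroup G) ∧
        s * s = 1 ∧ t * t = 1 ∧ s ≠ 1 ∧ t ≠ 1 ∧ s ≠ t := by
      intro P
      have hdvd : 2 ∣ Nat.card (P : Subgroup G) := P.dvd_card_of_dvd_card h2G
      obtain ⟨⟨s, hs⟩, hso⟩ := exists_prime_orderOf_dvd_card' (G := (P : Subgroup G)) 2 hdvd
      rw [orderOf_mk] at hso
      have hs2 : s * s = 1 := by rw [← sq, ← hso, pow_orderOf_eq_one]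
      have hs1 : s ≠ 1 := fun h => by simp [h] at hso
      by_contra hno
      push_neg at hno
      have hsC : s ∈ (P : Subgroup G) ⊓
          centralizer (normalizer ((P : Subgroup G) : Set G) : Set G) := by
        refine ⟨hs, mem_centralizer_iff.2 fun g hg => ?_⟩
        have h1 : g * s * g⁻¹ ∈ (P : Subgroup G) := (mem_normalizer_iff.1 hg s).1 hs
        have h2 : g * s * g⁻¹ * (g * s * g⁻¹) = 1 := by
          rw [show g * s * g⁻¹ * (g * s * g⁻¹) = g * (s * s) * g⁻¹ by group, hs2]; group
        have h3 : g * s * g⁻¹ ≠ 1 := fun h => hs1 (by rwa [conj_eq_one_iff] at h)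
        have h4 := hno s (g * s * g⁻¹) hs h1 hs2 h2 hs1 h3
        exact (mul_inv_eq_iff_eq_mul.1 h4.symm)
      obtain ⟨N, hN, ⟨e⟩⟩ := Cfsg.Agent.S0105.result P
        (le_centralizer_iff_isMulCommutative.1 fun a ha => mem_centralizer_iff.2 fun b hb =>
          hA P b hb a ha)
      rcases hN.eq_bot_or_eq_top with h | h
      · subst h
        refine hab fun a b => ?_
        have hinj : Function.Injective (QuotientGroup.mk' (⊥ : Subgroup G)) := by
          rw [← MonoidHom.ker_eq_bot_iff, QuotientGroup.ker_mk']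
        apply hinj
        apply e.injective
        rw [map_mul, map_mul, map_mul, map_mul]
        exact Subtype.ext (hA P _ (e _).2.1 _ (e _).2.1)
      · subst h
        haveI : Subsingleton (G ⧸ (⊤ : Subgroup G)) := QuotientGroup.subsingleton_quotient_top
        have := e.symm.injective (Subsingleton.elim (e.symm ⟨s, hsC⟩) (e.symm 1))
        exact hs1 (congrArg Subtype.val this)
    obtain ⟨P⟩ := (inferInstance : Nonempty (Sylow 2 G))
    set N := normalizer ((P : Subgroup G) : Set G) with hNdef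
    have hsylN : ∀ (Q : Sylow 2 G) (w : G), w ∈ (Q : Subgroup G) → w * w = 1 → w ≠ 1 →
        w ∈ N → Q = P := by
      intro Q w hwQ hw2 hw1 hwN
      have hp : IsPGroup 2 (zpowers w) := IsPGroup.of_card (n := 1) (by
        rw [Nat.card_zpowers, pow_one]
        exact orderOf_eq_prime (by rw [sq, hw2]) hw1)
      have hwP : w ∈ (P : Subgroup G) := (P.3 (hp.to_sup_of_normal_right' P.2 (zpowers_le.2 hwN))
        le_sup_right).le (mem_sup_left (mem_zpowers w))
      have hle : (Q : Subgroup G) ≤ N := fun q hq => hloc P w hwP hw2 hw1 q (hA Q q hq w hwQ)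
      exact Sylow.ext (P.3 (Q.2.to_sup_of_normal_right' P.2 hle) le_sup_right ▸
        (Q.3 (Q.2.to_sup_of_normal_right' P.2 hle) le_sup_left).symm)
    have huniq : ∀ (Q R : Sylow 2 G) (w : G), w ∈ (Q : Subgroup G) → w ∈ (R : Subgroup G) →
        w * w = 1 → w ≠ 1 → Q = R := by
      intro Q R w hQ hR hw2 hw1
      have hle : (Q : Subgroup G) ≤ normalizer ((R : Subgroup G) : Set G) := fun q hq =>
        hloc R w hR hw2 hw1 q (hA Q q hq w hQ)
      exact Sylow.ext ((Q.3 (Q.2.to_sup_of_normal_right' R.2 hle) le_sup_left).symm.trans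
        (R.3 (Q.2.to_sup_of_normal_right' R.2 hle) le_sup_right))
    -- the cosets of `N` cannot accommodate all involutions
    choose s t hs ht hs2 ht2 hs1 ht1 hst using htwo
    let inv : {Q : Sylow 2 G // Q ≠ P} × Bool → G := fun x => if x.2 then s x.1.1 else t x.1.1
    have hinv : ∀ x, inv x ∈ (x.1.1 : Subgroup G) ∧ inv x * inv x = 1 ∧ inv x ≠ 1 := by
      rintro ⟨Q, b⟩
      cases b <;> simp [inv, hs, ht, hs2, ht2, hs1, ht1]
    have hnotN : ∀ x, inv x ∉ N := fun x h =>
      x.1.2 (hsylN _ _ (hinv x).1 (hinv x).2.1 (hinv x).2.2 h)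
    let F : {Q : Sylow 2 G // Q ≠ P} × Bool → {c : G ⧸ N // c ≠ QuotientGroup.mk 1} := fun x =>
      ⟨QuotientGroup.mk (inv x), fun h => hnotN x (by
        have := QuotientGroup.eq.1 h.symm
        simpa using this)⟩
    have hFinj : Function.Injective F := by
      intro x y hxy
      have h1 : (inv x)⁻¹ * inv y ∈ N := QuotientGroup.eq.1 (congrArg Subtype.val hxy)
      obtain ⟨hxQ, hx2, hx1⟩ := hinv x
      obtain ⟨hyQ, hy2, hy1⟩ := hinv y
      have h2 : inv x * ((inv x)⁻¹ * inv y) * inv x = ((inv x)⁻¹ * inv y)⁻¹ := by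
        rw [mul_inv_rev, inv_inv, inv_eq_of_mul_eq_one_left hy2, mul_inv_cancel_left]
      have h3 := no_inverted hA hHodd hc hloc P hx2 hx1 (hnotN x) h1 h2
      have h4 : inv x = inv y := inv_mul_eq_one.1 h3
      have hQ : x.1 = y.1 := Subtype.ext (huniq _ _ _ hxQ (h4 ▸ hyQ) hx2 hx1)
      obtain ⟨Q, b⟩ := x
      obtain ⟨Q', b'⟩ := y
      simp only at hQ
      subst hQ
      have := hst Q.1
      cases b <;> cases b'
      · rfl
      · exact absurd h4.symm this
      · exact absurd h4 this
      · rfl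
    have hcount := Nat.card_le_card_of_injective F hFinj
    have hr1 : Nat.card {Q : Sylow 2 G // Q ≠ P} + 1 = Nat.card (Sylow 2 G) := by
      have := Nat.card_congr (Equiv.sumCompl (fun Q : Sylow 2 G => Q = P))
      rw [Nat.card_sum] at this
      have h1 : Nat.card {Q : Sylow 2 G // Q = P} = 1 := Nat.card_unique
      rw [h1] at this
      have h2' : Nat.card {Q : Sylow 2 G // Q ≠ P} = Nat.card {Q : Sylow 2 G // ¬ Q = P} := rfl
      omega
    have hr2 : Nat.card {c : G ⧸ N // c ≠ QuotientGroup.mk 1} + 1 = N.index := by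
      have := Nat.card_congr (Equiv.sumCompl (fun c : G ⧸ N => c = QuotientGroup.mk 1))
      rw [Nat.card_sum] at this
      have h1 : Nat.card {c : G ⧸ N // c = QuotientGroup.mk 1} = 1 := Nat.card_unique
      rw [h1] at this
      have h2' : Nat.card {c : G ⧸ N // c ≠ QuotientGroup.mk 1} = Nat.card {c : G ⧸ N // ¬ c = QuotientGroup.mk 1} := rfl
      rw [index_eq_card]
      omega
    have hidx : N.index = Nat.card (Sylow 2 G) := P.card_eq_index_normalizer.symm
    have hidx2 : 1 < N.index := one_lt_index_of_ne_top (hnormlt P)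
    rw [Nat.card_prod, Nat.card_eq_fintype_card (α := Bool), Fintype.card_bool] at hcount
    omega

/-- A group with abelian Sylow 2-subgroups and an odd order subgroup of 2-power index is solvable. -/
theorem solvable_of_odd_complement (hA : TwoAbel G) (H : Subgroup G) (hH : Odd (Nat.card H))
    (hk : ∃ k, H.index = 2 ^ k) : Group.IsSolvable G :=
  solvable_of_odd_complement_aux _ G rfl hA H hH hk

/-- A perfect group with abelian Sylow 2-subgroups has no proper subgroup of 2-power index. -/
theorem eq_top_of_two_pow_index (hA : TwoAbel G) (hperf : commutator G = ⊤) (H : Subgroup G)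
    {k : ℕ} (hk : H.index = 2 ^ k) : H = ⊤ := by
  classical
  haveI : Fact (Nat.Prime 2) := ⟨Nat.prime_two⟩
  set C := H.normalCore
  let π := QuotientGroup.mk' C
  have hπ : Function.Surjective π := QuotientGroup.mk'_surjective C
  set Hb := H.map π
  have hker : π.ker ≤ H := by rw [QuotientGroup.ker_mk']; exact H.normalCore_le
  have hidx : Hb.index = 2 ^ k := by rw [index_map_eq H hπ hker, hk]
  have hAb := hA.surj π hπ
  have hcoreb : Hb.normalCore = ⊥ := by
    refine (eq_bot_iff_forall _).2 fun x hx => ?_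
    obtain ⟨g, rfl⟩ := hπ x
    refine (QuotientGroup.eq_one_iff g).2 fun b => ?_
    have h1 := hx (π b)
    rw [← map_inv, ← map_mul, ← map_mul] at h1
    exact (comap_map_eq_self hker).le (mem_comap.2 h1)
  have hodd : Odd (Nat.card Hb) := by
    rw [← Nat.not_even_iff_odd, even_iff_two_dvd]
    intro h2
    obtain ⟨Q⟩ := (inferInstance : Nonempty (Sylow 2 Hb))
    have hQp : IsPGroup 2 ((Q : Subgroup Hb).map Hb.subtype) := Q.2.map _
    obtain ⟨T, hQT⟩ := hQp.exists_le_sylow
    have hQcard : Nat.card ((Q : Subgroup Hb).map Hb.subtype) = 2 ^ (Nat.card Hb).factorization 2 :=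
      by rw [card_map_of_injective Hb.subtype_injective, Q.card_eq_multiplicity]
    have hTcard : Nat.card (T : Subgroup (G ⧸ C)) = 2 ^ k * 2 ^ (Nat.card Hb).factorization 2 := by
      rw [T.card_eq_multiplicity, ← Hb.card_mul_index, hidx,
        Nat.factorization_mul Nat.card_pos.ne' (pow_ne_zero _ two_ne_zero), Finsupp.add_apply,
        Nat.prime_two.factorization_pow, Finsupp.single_eq_same, pow_add, mul_comm]
    have hinf : Nat.card ↥(Hb ⊓ (T : Subgroup (G ⧸ C))) = 2 ^ (Nat.card Hb).factorization 2 := by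
      refine Nat.dvd_antisymm ?_ ?_
      · obtain ⟨j, hj⟩ := IsPGroup.iff_card.1 (T.2.to_le (inf_le_right (a := Hb)))
        rw [hj]
        refine Nat.pow_dvd_pow 2 ((Nat.prime_two.pow_dvd_iff_le_factorization Nat.card_pos.ne').1 ?_)
        rw [← hj]; exact card_dvd_of_le inf_le_left
      · rw [← hQcard]
        exact card_dvd_of_le (le_inf (map_subtype_le _) hQT)
    have hrel : Hb.relIndex (T : Subgroup (G ⧸ C)) = 2 ^ k := by
      have h := relIndex_mul_relIndex ⊥ (Hb ⊓ (T : Subgroup (G ⧸ C))) T bot_le inf_le_right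
      rw [relIndex_bot_left, relIndex_bot_left, inf_relIndex_right, hTcard, hinf, mul_comm] at h
      exact Nat.eq_of_mul_eq_mul_right (pow_pos two_pos _) h
    have htrans : ∀ g : G ⧸ C, ∃ t ∈ (T : Subgroup (G ⧸ C)), g⁻¹ * t ∈ Hb := by
      intro g
      let f : (T : Subgroup (G ⧸ C)) ⧸ Hb.subgroupOf T → (G ⧸ C) ⧸ Hb :=
        Quotient.map' Subtype.val fun a b h => by
          rw [QuotientGroup.leftRel_apply] at h ⊢
          exact h
      have hfi : Function.Injective f := by
        rintro ⟨a⟩ ⟨b⟩ h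
        have h' : QuotientGroup.mk (s := Hb) ((a : (T : Subgroup (G ⧸ C))) : G ⧸ C)
            = QuotientGroup.mk (s := Hb) ((b : (T : Subgroup (G ⧸ C))) : G ⧸ C) := h
        have h2 := QuotientGroup.eq.1 h'
        exact Quotient.sound' (QuotientGroup.leftRel_apply.2 h2)
      obtain ⟨⟨t⟩, ht⟩ := (Nat.bijective_iff_injective_and_card f).2 ⟨hfi, by
        rw [← index_eq_card, ← index_eq_card, hidx]; exact hrel⟩ |>.2 (QuotientGroup.mk g)
      exact ⟨t, t.2, QuotientGroup.eq.1 ht.symm⟩
    have hQcore : (Q : Subgroup Hb).map Hb.subtype ≤ Hb.normalCore := by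
      intro q hq g
      obtain ⟨t, ht, hh⟩ := htrans g⁻¹
      rw [inv_inv] at hh
      have hcomm : t * q * t⁻¹ = q := by
        rw [hAb T t ht q (hQT hq), mul_inv_cancel_right]
      have hgq : g * q * g⁻¹ = (g * t) * q * (g * t)⁻¹ := by
        conv_lhs => rw [← hcomm]
        group
      rw [hgq]
      exact mul_mem (mul_mem hh (map_subtype_le _ hq)) (inv_mem hh)
    rw [hcoreb, le_bot_iff] at hQcore
    exact Q.ne_bot_of_dvd_card h2 ((map_eq_bot_iff_of_injective _ Hb.subtype_injective).1 hQcore)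
  haveI := solvable_of_odd_complement hAb Hb hodd ⟨k, hidx⟩
  have hperfb : commutator (G ⧸ C) = ⊤ := by
    rw [_root_.commutator_def, ← map_top_of_surjective π hπ, ← map_commutator, ← _root_.commutator_def,
      hperf]
  have htop : C = ⊤ := by
    by_contra hne
    haveI : Nontrivial (G ⧸ C) := QuotientGroup.nontrivial_iff.2 hne
    exact (Group.IsSolvable.commutator_lt_top_of_nontrivial (G ⧸ C)).ne hperfb
  exact top_le_iff.1 (htop ▸ H.normalCore_le)

end CfsgLib.TwoPowIndex
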